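import Mathlib

/-! Finitely presented modules over rings whose localisations at maximal ideals are chained rings
are retracts of finite products of cyclic modules `R ⧸ (f)`. -/

set_option autoImplicit false
set_option maxHeartbeats 400000

universe u v w

namespace PureProjLib

lemma exists_dvd_finset {R : Type u} [CommRing R] (htot : ∀ a b : R, a ∣ b ∨ b ∣ a)
    (T : Finset R) (hT : T.Nonempty) : ∃ g ∈ T, ∀ a ∈ T, g ∣ a := by
  classical
  induction hT using Finset.Nonempty.cons_induction with
  | singleton a => exact ⟨a, by simp, by simp⟩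
  | cons a s ha hs ih =>
    obtain ⟨g, hg, hgd⟩ := ih
    rcases htot a g with h | h
    · exact ⟨a, by simp, by simpa using fun b hb => h.trans (hgd b hb)⟩
    · exact ⟨g, by simp [hg], by simpa [h] using hgd⟩

/-- Smith normal form for finitely presented modules over a chained ring. -/
lemma exists_equiv_pi_quotient {R : Type u} [CommRing R] (htot : ∀ a b : R, a ∣ b ∨ b ∣ a) :
    ∀ (n : ℕ) (N : Type u) [AddCommGroup N] [Module R N] [Module.FinitePresentation R N]
      (x : Fin n → N), Submodule.span R (Set.range x) = ⊤ →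
      ∃ (l : ℕ) (f : Fin l → R), Nonempty (N ≃ₗ[R] ∀ k, R ⧸ Ideal.span {f k}) := by
  intro n
  induction n with
  | zero =>
    intro N _ _ _ x hx
    haveI : Subsingleton N := by
      have h0 : (⊤ : Submodule R N) = ⊥ := by
        rw [← hx, Set.range_eq_empty x, Submodule.span_empty]
      exact (Submodule.subsingleton_iff R).mp (subsingleton_of_bot_eq_top h0.symm)
    exact ⟨0, Fin.elim0, ⟨LinearEquiv.ofSubsingleton _ _⟩⟩
  | succ n ih =>
    intro N _ _ _ x hx
    classical
    let π : (Fin (n + 1) → R) →ₗ[R] N := Fintype.linearCombination R x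
    have hπ : Function.Surjective π := by
      rw [← LinearMap.range_eq_top, Fintype.range_linearCombination, hx]
    obtain ⟨S, hS⟩ := Module.FinitePresentation.fg_ker π hπ
    let S' := insert 0 S
    let T : Finset R := S'.biUnion fun v => Finset.univ.image v
    have hT : T.Nonempty :=
      Finset.Nonempty.biUnion ⟨0, Finset.mem_insert_self _ _⟩ fun v _ => Finset.univ_nonempty.image _
    obtain ⟨g, hg, hgd⟩ := exists_dvd_finset htot T hT
    have hdvd : ∀ u ∈ LinearMap.ker π, ∀ i, g ∣ u i := by
      intro u hu i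
      rw [← hS] at hu
      induction hu using Submodule.span_induction with
      | mem v hv => exact hgd _ (Finset.mem_biUnion.mpr ⟨v, Finset.mem_insert_of_mem hv, by simp⟩)
      | zero => simp
      | add a b _ _ ha hb => exact dvd_add ha hb
      | smul c a _ ha => exact dvd_mul_of_dvd_right ha c
    obtain ⟨v, hv, hvj⟩ := Finset.mem_biUnion.mp hg
    obtain ⟨j, -, hvj⟩ := Finset.mem_image.mp hvj
    have hvker : v ∈ LinearMap.ker π := by
      rcases Finset.mem_insert.mp hv with rfl | hv
      · exact zero_mem _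
      · exact hS ▸ Submodule.subset_span hv
    choose q hq using hdvd v hvker
    let w : Fin (n + 1) → R := Function.update q j 1
    have hw : g • w = v := funext fun i => by
      by_cases h : i = j
      · subst h; simp [w, hvj]
      · simp [w, Function.update_of_ne h, hq i]
    have hwj : w j = 1 := Function.update_self ..
    let y : N := π w
    have hgy : g • y = 0 := by rw [← map_smul, hw]; exact hvker
    let N' : Submodule R N := Submodule.span R (Set.range (x ∘ j.succAbove))
    have hπ' : ∀ u : Fin (n + 1) → R, u j = 0 → π u ∈ N' := by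
      intro u hu
      rw [show π u = ∑ i, u i • x i from Fintype.linearCombination_apply _ _ _, Fin.sum_univ_succAbove _ j,
        hu, zero_smul, zero_add]
      exact Submodule.sum_mem _ fun i _ => Submodule.smul_mem _ _ (Submodule.subset_span ⟨i, rfl⟩)
    have hN' : ∀ z ∈ N', ∃ u, u j = 0 ∧ π u = z := by
      intro z hz
      induction hz using Submodule.span_induction with
      | mem z hz =>
        obtain ⟨i, rfl⟩ := hz
        exact ⟨Pi.single (j.succAbove i) 1, Pi.single_eq_of_ne (Fin.succAbove_ne j i).symm _, by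
          show Fintype.linearCombination R x _ = _
          rw [Fintype.linearCombination_apply_single, one_smul]; rfl⟩
      | zero => exact ⟨0, rfl, map_zero _⟩
      | add a b _ _ ha hb =>
        obtain ⟨u, hu, rfl⟩ := ha; obtain ⟨u', hu', rfl⟩ := hb
        exact ⟨u + u', by simp [hu, hu'], map_add ..⟩
      | smul c a _ ha =>
        obtain ⟨u, hu, rfl⟩ := ha
        exact ⟨c • u, by simp [hu], map_smul ..⟩
    have key : ∀ a : R, a • y ∈ N' → g ∣ a := by
      intro a h
      obtain ⟨u, hu, h⟩ := hN' _ h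
      have hmem : a • w - u ∈ LinearMap.ker π := by
        rw [LinearMap.mem_ker, map_sub, map_smul, h, sub_self]
      simpa [hu, hwj] using hdvd _ hmem j
    let ρ : (R ⧸ Ideal.span {g}) →ₗ[R] N :=
      Submodule.liftQ _ (LinearMap.toSpanSingleton R N y) <| by
        rw [Ideal.span, Submodule.span_singleton_le_iff_mem]
        exact hgy
    let c := ρ.coprod N'.subtype
    have hc : Function.Bijective c := by
      constructor
      · refine (injective_iff_map_eq_zero _).mpr ?_
        rintro ⟨a, z⟩ h
        obtain ⟨a, rfl⟩ := Submodule.Quotient.mk_surjective _ a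
        have h' : a • y + (z : N) = 0 := h
        have hz : a • y ∈ N' := by rw [eq_neg_of_add_eq_zero_left h']; exact neg_mem z.2
        obtain ⟨b, rfl⟩ := key a hz
        rw [mul_comm, mul_smul, hgy, smul_zero, zero_add] at h'
        refine Prod.ext ((Submodule.Quotient.mk_eq_zero _).mpr ?_) (Subtype.ext h')
        exact Ideal.mem_span_singleton.mpr ⟨b, rfl⟩
      · intro z
        obtain ⟨u, rfl⟩ := hπ z
        refine ⟨(Submodule.Quotient.mk (u j), ⟨π (u - u j • w), hπ' _ (by simp [hwj])⟩), ?_⟩
        show u j • y + π (u - u j • w) = π u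
        rw [map_sub, map_smul]; abel
    let e := LinearEquiv.ofBijective c hc
    haveI : Module.FinitePresentation R N' := by
      refine Module.finitePresentation_of_surjective ((LinearMap.snd R _ N').comp e.symm.toLinearMap)
        (Prod.snd_surjective.comp e.symm.surjective) ?_
      rw [LinearMap.ker_comp, LinearMap.ker_snd, Submodule.comap_equiv_eq_map_symm]
      exact Submodule.FG.map _ (Module.Finite.iff_fg.mp (Module.Finite.range _))
    let x' : Fin n → N' := fun i => ⟨x (j.succAbove i), Submodule.subset_span ⟨i, rfl⟩⟩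
    have hx' : Submodule.span R (Set.range x') = ⊤ := by
      apply Submodule.map_injective_of_injective N'.injective_subtype
      rw [Submodule.map_span, ← Set.range_comp, Submodule.map_subtype_top]
      rfl
    obtain ⟨l, f, ⟨e'⟩⟩ := ih N' x' hx'
    refine ⟨l + 1, Fin.cons (α := fun _ => R) g f, ⟨e.symm ≪≫ₗ (LinearEquiv.prodCongr (LinearEquiv.refl R _) e') ≪≫ₗ
      ?_⟩⟩
    exact Fin.consLinearEquiv R (fun k : Fin (l + 1) => R ⧸ Ideal.span {Fin.cons (α := fun _ => R) g f k})

/-- The `r` such that `r • id` factors through a finite product of cyclic modules. -/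
lemma exists_factor {R : Type u} [CommRing R]
    (h : ∀ (m : Ideal R) [m.IsMaximal], ∀ a b : Localization.AtPrime m, a ∣ b ∨ b ∣ a)
    (M : Type u) [AddCommGroup M] [Module R M] [Module.FinitePresentation R M] :
    ∃ (l : ℕ) (f : Fin l → R) (ψ : M →ₗ[R] ∀ k, R ⧸ Ideal.span {f k})
      (φ : (∀ k, R ⧸ Ideal.span {f k}) →ₗ[R] M), φ ∘ₗ ψ = LinearMap.id := by
  classical
  let J : Ideal R :=
    { carrier := {r | ∃ (ι : Type) (_ : Fintype ι) (f : ι → R) (ψ : M →ₗ[R] ∀ k, R ⧸ Ideal.span {f k})
        (φ : (∀ k, R ⧸ Ideal.span {f k}) →ₗ[R] M), φ ∘ₗ ψ = r • LinearMap.id}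
      zero_mem' := ⟨Empty, inferInstance, fun k => k.elim, 0, 0, by simp⟩
      add_mem' := by
        rintro a b ⟨ι, _, f, ψ, φ, h1⟩ ⟨ι', _, f', ψ', φ', h2⟩
        refine ⟨ι ⊕ ι', inferInstance, Sum.elim f f', LinearMap.pi fun k => match k with
          | .inl i => LinearMap.proj i ∘ₗ ψ
          | .inr i => LinearMap.proj i ∘ₗ ψ',
          φ ∘ₗ LinearMap.pi (fun i => LinearMap.proj (Sum.inl i)) +
            φ' ∘ₗ LinearMap.pi (fun i => LinearMap.proj (Sum.inr i)), ?_⟩
        rw [add_smul, ← h1, ← h2]
        ext z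
        rfl
      smul_mem' := by
        rintro c a ⟨ι, _, f, ψ, φ, h1⟩
        exact ⟨ι, inferInstance, f, c • ψ, φ, by rw [LinearMap.comp_smul, h1, smul_smul]; rfl⟩ }
  suffices hJ : J = ⊤ by
    obtain ⟨ι, _, f, ψ, φ, h1⟩ : (1 : R) ∈ J := hJ ▸ Submodule.mem_top
    let e := Fintype.equivFin ι
    let E : (∀ k, R ⧸ Ideal.span {f (e.symm k)}) ≃ₗ[R] ∀ k, R ⧸ Ideal.span {f k} :=
      LinearEquiv.piCongrLeft R (fun k => R ⧸ Ideal.span {f k}) e.symm
    exact ⟨_, fun k => f (e.symm k), E.symm.toLinearMap ∘ₗ ψ, φ ∘ₗ E.toLinearMap, by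
      ext z; simpa using LinearMap.congr_fun h1 z⟩
  by_contra hJ
  obtain ⟨m, hm, hle⟩ := Ideal.exists_le_maximal J hJ
  let Rm := Localization.AtPrime m
  let Mm := LocalizedModule m.primeCompl M
  let μ := LocalizedModule.mkLinearMap m.primeCompl M
  haveI : Module.FinitePresentation Rm Mm :=
    inferInstanceAs (Module.FinitePresentation (Localization m.primeCompl) (LocalizedModule m.primeCompl M))
  obtain ⟨n, x, hx⟩ := Module.Finite.exists_fin (R := Rm) (M := Mm)
  obtain ⟨l, f, ⟨e⟩⟩ := exists_equiv_pi_quotient (h m) n Mm x hx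
  choose p hp using fun k => IsLocalization.surj m.primeCompl (f k)
  let y : Fin l → Mm := fun k => e.symm (Pi.single k (Submodule.Quotient.mk 1))
  have hfy : ∀ k, f k • y k = 0 := fun k => by
    rw [← map_smul, ← Pi.single_smul, ← Submodule.Quotient.mk_smul, smul_eq_mul, mul_one,
      (Submodule.Quotient.mk_eq_zero _).mpr (Ideal.mem_span_singleton_self _), Pi.single_zero, map_zero]
  choose xs hxs using fun k => IsLocalizedModule.surj m.primeCompl μ (y k)
  have hrx : ∀ k, ∃ t : m.primeCompl, t • ((p k).1 • (xs k).1) = t • (0 : M) := fun k => by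
    refine IsLocalizedModule.exists_of_eq (S := m.primeCompl) (f := μ) ?_
    rw [map_smul, ← hxs k, map_zero, algebra_compatible_smul Rm (p k).1, ← hp k, Submonoid.smul_def,
      smul_comm, mul_comm, mul_smul, hfy k, smul_zero, smul_zero]
  choose t ht using hrx
  let r : Fin l → R := fun k => (p k).1
  let Q := ∀ k, R ⧸ Ideal.span {r k}
  let ν := LocalizedModule.mkLinearMap m.primeCompl Q
  let ρ : ∀ k, (R ⧸ Ideal.span {r k}) →ₗ[R] M := fun k =>
    Submodule.liftQ _ (LinearMap.toSpanSingleton R M (t k • (xs k).1)) (by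
      rw [Ideal.span, Submodule.span_singleton_le_iff_mem, LinearMap.mem_ker,
        LinearMap.toSpanSingleton_apply, smul_comm, ht k, smul_zero])
  let φ : Q →ₗ[R] M := ∑ k, ρ k ∘ₗ LinearMap.proj k
  have hρ : ∀ k, ρ k (Submodule.Quotient.mk 1) = t k • (xs k).1 := fun k => one_smul R _
  have hφ : ∀ k, φ (Pi.single k (Submodule.Quotient.mk 1)) = t k • (xs k).1 := fun k => by
    have : φ (Pi.single k (Submodule.Quotient.mk 1)) =
        ∑ b, ρ b ((Pi.single k (Submodule.Quotient.mk 1) : Q) b) := LinearMap.sum_apply _ _ _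
    rw [this, Finset.sum_eq_single k]
    · rw [Pi.single_eq_same, hρ]
    · intro b _ hb; rw [Pi.single_eq_of_ne hb, map_zero]
    · simp
  let d : Fin l → m.primeCompl := fun k => t k * (xs k).2
  let W : Fin l → LocalizedModule m.primeCompl Q := fun k =>
    LocalizedModule.mk (Pi.single k (Submodule.Quotient.mk 1)) (d k)
  have hW : ∀ k, f k • W k = 0 := fun k => by
    have hu : IsUnit (algebraMap R Rm (p k).2) := IsLocalization.map_units Rm (p k).2
    refine hu.smul_left_cancel.mp ?_
    rw [smul_zero, smul_smul, mul_comm, hp k, algebraMap_smul, LocalizedModule.smul'_mk,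
      ← Pi.single_smul, ← Submodule.Quotient.mk_smul, smul_eq_mul, mul_one,
      (Submodule.Quotient.mk_eq_zero _).mpr (Ideal.mem_span_singleton_self _), Pi.single_zero,
      LocalizedModule.zero_mk]
  let G : (∀ k, Rm ⧸ Ideal.span {f k}) →ₗ[Rm] LocalizedModule m.primeCompl Q :=
    ∑ k, (Submodule.liftQ _ (LinearMap.toSpanSingleton Rm _ (W k)) (by
      rw [Ideal.span, Submodule.span_singleton_le_iff_mem, LinearMap.mem_ker,
        LinearMap.toSpanSingleton_apply, hW k])) ∘ₗ LinearMap.proj k
  let Φ : LocalizedModule m.primeCompl Q →ₗ[Rm] Mm := LocalizedModule.map m.primeCompl φ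
  have hΦW : ∀ k, Φ (W k) = y k := fun k => by
    show LocalizedModule.map m.primeCompl φ (LocalizedModule.mk _ _) = _
    rw [LocalizedModule.map_mk, hφ k]
    refine ((Module.End.isUnit_iff _).mp
      (IsLocalizedModule.map_units μ (d k))).1 ?_
    show (d k : R) • LocalizedModule.mk _ (d k) = (d k : R) • y k
    rw [LocalizedModule.smul'_mk, show (d k : R) • y k = (t k : R) • ((xs k).2 : R) • y k by
      rw [smul_smul]; rfl, show ((xs k).2 : R) • y k = μ (xs k).1 from hxs k]
    exact (LocalizedModule.mk_cancel (d k) _).trans (μ.map_smul _ _)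
  have hΦG : ∀ u, Φ (G u) = e.symm u := by
    intro u
    choose a ha using fun k => Submodule.Quotient.mk_surjective _ (u k)
    have h1 : G u = ∑ k, a k • W k := by
      simp only [G, LinearMap.coe_sum, Finset.sum_apply, LinearMap.comp_apply, LinearMap.proj_apply]
      exact Finset.sum_congr rfl fun k _ => by rw [← ha k]; rfl
    conv_rhs => rw [← Finset.univ_sum_single u]
    rw [h1, map_sum, map_sum]
    refine Finset.sum_congr rfl fun k _ => ?_
    rw [map_smul, hΦW, show u k = a k • (Submodule.Quotient.mk 1 : Rm ⧸ Ideal.span {f k}) by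
      rw [← Submodule.Quotient.mk_smul, smul_eq_mul, mul_one, ha], ← map_smul]
    exact congrArg _ (Pi.single_smul k (a k) _).symm
  obtain ⟨ψ, s, hψ⟩ := Module.FinitePresentation.exists_lift_of_isLocalizedModule m.primeCompl ν
    ((G.comp e.toLinearMap).restrictScalars R ∘ₗ μ)
  obtain ⟨s', hs'⟩ := Module.Finite.exists_smul_of_comp_eq_of_isLocalizedModule m.primeCompl μ
    (φ ∘ₗ ψ) ((s : R) • LinearMap.id) (by
      ext z
      have h2 : Φ (ν (ψ z)) = μ (φ (ψ z)) := LocalizedModule.map_mk m.primeCompl φ (ψ z) 1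
      have h3 : ν (ψ z) = (s : R) • G (e (μ z)) := LinearMap.congr_fun hψ z
      simp only [LinearMap.comp_apply, LinearMap.smul_apply, LinearMap.id_apply, map_smul]
      rw [← h2, h3, LinearMap.map_smul_of_tower, hΦG, LinearEquiv.symm_apply_apply])
  have hmem : (s' * s : R) ∈ J := ⟨Fin l, inferInstance, r, (s' : R) • ψ, φ, by
    rw [LinearMap.comp_smul, mul_smul]
    exact hs'⟩
  exact (s' * s).2 (hle hmem)

end PureProjLib
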